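import Mathlib
import Cfsg.Agent.Lib.Transfer.PResidual
import Cfsg.Agent.Lib.FusionMod.Basic

/-!
Thompson transfer along a dihedral complement.
-/

set_option autoImplicit false

namespace Cfsg.Agent.Lib.DihedralTransfer

open Subgroup
open scoped Pointwise

/-- A `2`-power element acting semiregularly with an odd number of cycles is odd. -/
theorem sign_eq_neg_one {α : Type*} [Fintype α] [DecidableEq α] (σ : Equiv.Perm α) {m k : ℕ}
    (hσ : σ ^ 2 ^ (m + 1) = 1) (hfree : ∀ a, (σ ^ 2 ^ m) a ≠ a) (hk : Odd k)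
    (hcard : Fintype.card α = 2 ^ (m + 1) * k) : Equiv.Perm.sign σ = -1 := by
  have hall : ∀ n ∈ σ.cycleType, n = 2 ^ (m + 1) := by
    intro n hn
    obtain ⟨c, τ, hσc, hdis, hcyc, hsupp⟩ := Equiv.Perm.mem_cycleType_iff.mp hn
    have hdvd : n ∣ 2 ^ (m + 1) :=
      (Equiv.Perm.dvd_of_mem_cycleType hn).trans (orderOf_dvd_of_pow_eq_one hσ)
    obtain ⟨i, hi, rfl⟩ := (Nat.dvd_prime_pow Nat.prime_two).mp hdvd
    by_contra hne
    have hile : i ≤ m := by
      by_contra h
      exact hne (by rw [show i = m + 1 by omega])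
    obtain ⟨a, ha⟩ : c.support.Nonempty := by
      rw [← Finset.card_pos, hsupp]; positivity
    apply hfree a
    have hτ : τ a = a := (hdis a).resolve_left (Equiv.Perm.mem_support.mp ha)
    have hc : c ^ 2 ^ m = 1 := by
      rw [← orderOf_dvd_iff_pow_eq_one, hcyc.orderOf, hsupp]
      exact pow_dvd_pow 2 hile
    rw [hσc, hdis.commute.mul_pow, hc, one_mul]
    exact Equiv.Perm.pow_apply_eq_self_of_apply_eq_self hτ _
  have hsupp : σ.support = Finset.univ := by
    rw [Finset.eq_univ_iff_forall]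
    intro a
    rw [Equiv.Perm.mem_support]
    exact fun h => hfree a (Equiv.Perm.pow_apply_eq_self_of_apply_eq_self h _)
  have hrep : σ.cycleType = Multiset.replicate (Multiset.card σ.cycleType) (2 ^ (m + 1)) :=
    Multiset.eq_replicate_card.mpr hall
  have hsum : σ.cycleType.sum = Fintype.card α := by
    rw [Equiv.Perm.sum_cycleType, hsupp, Finset.card_univ]
  have hcard' : Multiset.card σ.cycleType = k := by
    rw [hrep, Multiset.sum_replicate, smul_eq_mul, hcard, mul_comm _ k] at hsum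
    exact Nat.eq_of_mul_eq_mul_right (by positivity) hsum
  rw [Equiv.Perm.sign_of_cycleType, hsum, hcard', hcard]
  refine Odd.neg_one_pow ?_
  exact Even.add_odd (by simp [parity_simps]) hk

variable {G : Type*} [Group G] [Finite G]

/-- The sign of the action on the cosets of `T`. -/
theorem exists_hom_neg_one (T : Subgroup G) {x : G} {m k : ℕ} (hx : x ^ 2 ^ (m + 1) = 1)
    (hfree : ∀ q : G, q⁻¹ * x ^ 2 ^ m * q ∉ T) (hk : Odd k) (hidx : T.index = 2 ^ (m + 1) * k) :
    ∃ f : G →* ℤˣ, f x = -1 := by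
  classical
  haveI := Fintype.ofFinite (G ⧸ T)
  refine ⟨Equiv.Perm.sign.comp (MulAction.toPermHom G (G ⧸ T)), ?_⟩
  refine sign_eq_neg_one (m := m) (k := k) _ ?_ (fun a h => ?_) hk ?_
  · rw [← map_pow, hx, map_one]
  · obtain ⟨q, rfl⟩ := QuotientGroup.mk_surjective a
    rw [← map_pow] at h
    have h2 : (x ^ 2 ^ m) • (QuotientGroup.mk q : G ⧸ T) = QuotientGroup.mk q := h
    rw [MulAction.Quotient.smul_mk, QuotientGroup.eq, smul_eq_mul] at h2
    have h3 := T.inv_mem h2
    rw [mul_inv_rev, inv_inv, ← mul_assoc] at h3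
    exact hfree q h3
  · rw [← Nat.card_eq_fintype_card, ← hidx]
    rfl

theorem dihedral_involution {D C : Subgroup G} {n : ℕ} (hn : 2 ≤ n) (e : ↥D ≃* DihedralGroup n)
    (hCD : C ≤ D) (hC : IsCyclic ↥C) (hCi : C.relIndex D = 2) {d : G} (hd : d ∈ D) (hdC : d ∉ C) :
    orderOf d = 2 := by
  haveI : NeZero n := ⟨by omega⟩
  haveI : IsCyclic C := hC
  obtain ⟨c, hc⟩ := IsCyclic.exists_generator (α := C)
  have hcardC : Nat.card C = n := by
    have h : Nat.card C * C.relIndex D = Nat.card D := by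
      rw [← Subgroup.relIndex_bot_left C, ← Subgroup.relIndex_bot_left D]
      exact Subgroup.relIndex_mul_relIndex ⊥ C D bot_le hCD
    rw [hCi, Nat.card_congr e.toEquiv, DihedralGroup.nat_card] at h
    omega
  have hord : orderOf (⟨(c : G), hCD c.2⟩ : D) = n := by
    rw [← hcardC, ← orderOf_eq_card_of_forall_mem_zpowers hc, Subgroup.orderOf_mk,
      Subgroup.orderOf_coe]
  rw [show d = ((⟨d, hd⟩ : D) : G) from rfl, Subgroup.orderOf_coe, ← e.orderOf_eq]
  rcases hed : e ⟨d, hd⟩ with i | i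
  · have hd1 : (DihedralGroup.r i : DihedralGroup n) ≠ 1 := fun h => by
      rw [← hed, map_eq_one_iff e e.injective] at h
      exact hdC (by rw [show d = 1 from congrArg Subtype.val h]; exact C.one_mem)
    rcases eq_or_lt_of_le hn with hn2 | hn3
    · subst hn2
      refine orderOf_eq_prime ?_ hd1
      rw [DihedralGroup.r_pow]
      have : ∀ z : ZMod 2, z * 2 = 0 := by decide
      rw [Nat.cast_ofNat, this, DihedralGroup.r_zero]
    · exfalso
      rcases hec : e ⟨(c : G), hCD c.2⟩ with j | j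
      · -- `C` maps onto the rotations
        have hj : orderOf (DihedralGroup.r j : DihedralGroup n) = n := by
          rw [← hec, e.orderOf_eq, hord]
        have hmem : (DihedralGroup.r i : DihedralGroup n) ∈
            zpowers (DihedralGroup.r j : DihedralGroup n) := by
          have h1 : zpowers (DihedralGroup.r j : DihedralGroup n) ≤
              zpowers (DihedralGroup.r 1 : DihedralGroup n) := by
            rw [zpowers_le]
            exact ⟨(j.val : ℤ), by simp [DihedralGroup.r_one_pow]⟩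
          have h2 : zpowers (DihedralGroup.r j : DihedralGroup n) = zpowers (DihedralGroup.r 1) := by
            refine Subgroup.eq_of_le_of_card_ge h1 ?_
            rw [Nat.card_zpowers, Nat.card_zpowers, hj, DihedralGroup.orderOf_r_one]
          rw [h2]
          exact ⟨(i.val : ℤ), by simp [DihedralGroup.r_one_pow]⟩
        obtain ⟨l, hl⟩ := mem_zpowers_iff.mp hmem
        rw [← hec, ← map_zpow, ← hed] at hl
        have h3 := congrArg Subtype.val (e.injective hl)
        rw [Subgroup.coe_zpow] at h3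
        refine hdC ?_
        rw [show d = (c : G) ^ l from h3.symm]
        exact C.zpow_mem c.2 l
      · have := DihedralGroup.orderOf_sr (n := n) j
        rw [← hec, e.orderOf_eq, hord] at this
        omega
  · exact DihedralGroup.orderOf_sr i

theorem exists_normal_dihedral (L T S D C : Subgroup G) (hL : Cfsg.pResidual 2 ↥L = ⊤)
    (hTL : T ≤ L) (hTsyl : ¬ 2 ∣ T.relIndex L)
    (hS2 : IsPGroup 2 S) (hSsyl : ¬ 2 ∣ S.index) (hTS : T ≤ S)
    (hDS : D ≤ S) {n : ℕ} (hn : 2 ≤ n) (e : ↥D ≃* DihedralGroup n) (hDT : D ⊓ T = ⊥)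
    (hTDc : Nat.card T * Nat.card D = Nat.card S)
    (hCD : C ≤ D) (hC : IsCyclic ↥C) (hCi : C.relIndex D = 2)
    (h1 : ∀ x ∈ D, x ∉ C → orderOf x = 2 → ∀ g : G, g * x * g⁻¹ ∈ T ⊔ C → False)
    (h2 : ∀ c ∈ C, orderOf c = 2 → ∀ g : G, g * c * g⁻¹ ∈ T → False) :
    ∃ K : Subgroup G, K.Normal ∧ K ⊔ D = ⊤ ∧
      ∀ T' : Subgroup G, T' ≤ L → IsPGroup 2 T' → ¬ 2 ∣ T'.relIndex L →
        T' ≤ K ∧ ¬ 2 ∣ T'.relIndex K := by
  classical
  haveI : Fact (Nat.Prime 2) := ⟨Nat.prime_two⟩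
  set R := Cfsg.pResidual 2 G with hR
  have hLR : L ≤ R := by
    have h := Transfer.pResidual_subgroup_le (p := 2) L
    rw [hL, ← MonoidHom.range_eq_map, Subgroup.range_subtype] at h
    exact h
  -- `S = T D` as sets
  let μ : T × D → S := fun q => ⟨(q.1 : G) * q.2, S.mul_mem (hTS q.1.2) (hDS q.2.2)⟩
  have hinj : ∀ a ∈ T, ∀ b ∈ D, ∀ a' ∈ T, ∀ b' ∈ D, a * b = a' * b' → a = a' ∧ b = b' := by
    intro a ha b hb a' ha' b' hb' h
    have h3 : a'⁻¹ * a = b' * b⁻¹ := by
      rw [eq_mul_inv_iff_mul_eq, mul_assoc, h, inv_mul_cancel_left]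
    have h4 : b' * b⁻¹ ∈ (D ⊓ T : Subgroup G) :=
      mem_inf.mpr ⟨D.mul_mem hb' (D.inv_mem hb), h3 ▸ T.mul_mem (T.inv_mem ha') ha⟩
    rw [hDT, mem_bot, mul_inv_eq_one] at h4
    subst h4
    exact ⟨mul_right_cancel h, rfl⟩
  have hμ : Function.Injective μ := fun q q' h => by
    obtain ⟨e1, e2⟩ := hinj _ q.1.2 _ q.2.2 _ q'.1.2 _ q'.2.2 (congrArg Subtype.val h)
    exact Prod.ext (Subtype.ext e1) (Subtype.ext e2)
  have hprod : ∀ y ∈ S, ∃ a ∈ T, ∃ b ∈ D, y = a * b := by
    intro y hy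
    obtain ⟨q, hq⟩ := ((Nat.bijective_iff_injective_and_card μ).mpr
      ⟨hμ, by rw [Nat.card_prod, hTDc]⟩).2 ⟨y, hy⟩
    exact ⟨_, q.1.2, _, q.2.2, (congrArg Subtype.val hq).symm⟩
  -- a reflection
  have hinv := fun d hd hdC => dihedral_involution hn e hCD hC hCi (d := d) hd hdC
  set M := T ⊔ C with hM
  have hMS : M ≤ S := sup_le hTS (hCD.trans hDS)
  have hcardC : Nat.card C * 2 = Nat.card D := by
    rw [← hCi, ← Subgroup.relIndex_bot_left C, ← Subgroup.relIndex_bot_left D]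
    exact Subgroup.relIndex_mul_relIndex ⊥ C D bot_le hCD
  obtain ⟨x₀, hx₀D, hx₀C⟩ : ∃ x ∈ D, x ∉ C := by
    by_contra h
    push Not at h
    have := Subgroup.card_le_of_le (h : D ≤ C)
    have := Nat.card_pos (α := C)
    omega
  have hx₀M : x₀ ∉ M := fun h => h1 x₀ hx₀D hx₀C (hinv x₀ hx₀D hx₀C) 1 (by simpa using h)
  have hMcard : 2 * Nat.card M = Nat.card S := by
    obtain ⟨i, hi⟩ := IsPGroup.iff_card.mp hS2
    obtain ⟨j, hj⟩ := IsPGroup.iff_card.mp (hS2.to_le hMS)
    have hlt : j < i := (Nat.pow_lt_pow_iff_right (by norm_num : 1 < 2)).mp (by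
      rw [← hi, ← hj]
      refine lt_of_le_of_ne (Subgroup.card_le_of_le hMS) fun he => hx₀M ?_
      rw [Subgroup.eq_of_le_of_card_ge hMS he.ge]
      exact hDS hx₀D)
    have hge : Nat.card T * Nat.card C ≤ Nat.card M := by
      rw [← Nat.card_prod]
      refine Nat.card_le_card_of_injective
        (fun q : T × C => (⟨(q.1 : G) * q.2, M.mul_mem (mem_sup_left q.1.2) (mem_sup_right q.2.2)⟩ : M))
        fun q q' h => ?_
      obtain ⟨e1, e2⟩ := hinj _ q.1.2 _ (hCD q.2.2) _ q'.1.2 _ (hCD q'.2.2)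
        (congrArg Subtype.val h)
      exact Prod.ext (Subtype.ext e1) (Subtype.ext e2)
    rw [hj] at hge ⊢
    rw [hi]
    have h5 : (2 : ℕ) ^ i ≤ 2 ^ (j + 1) := by
      rw [← hi, ← hTDc, ← hcardC, pow_succ, ← mul_assoc]
      exact Nat.mul_le_mul_right 2 hge
    have h6 := (Nat.pow_le_pow_iff_right (by norm_num : 1 < 2)).mp h5
    rw [show i = j + 1 by omega, pow_succ']
  -- the involutions outside `C` are odd
  have hMidx : M.index = 2 ^ (0 + 1) * S.index := by
    have h := M.card_mul_index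
    rw [← S.card_mul_index, ← hMcard, mul_comm 2 (Nat.card M), mul_assoc] at h
    simpa using Nat.eq_of_mul_eq_mul_left Nat.card_pos h
  have hSodd : Odd S.index := Nat.odd_iff.mpr (Nat.two_dvd_ne_zero.mp hSsyl)
  haveI := Fintype.ofFinite (G ⧸ M)
  let σ : G →* ℤˣ := Equiv.Perm.sign.comp (MulAction.toPermHom G (G ⧸ M))
  have hσR : R ≤ σ.ker := by
    refine Transfer.pResidual_le_ker ?_ σ
    exact IsPGroup.of_card (n := 1) (by simp [Nat.card_eq_fintype_card])
  have hσx : ∀ d ∈ D, d ∉ C → σ d = -1 := by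
    intro d hd hdC
    have hd2 := hinv d hd hdC
    refine sign_eq_neg_one (m := 0) (k := S.index) _ ?_ (fun a h => ?_) hSodd ?_
    · rw [← map_pow, show (2 : ℕ) ^ (0 + 1) = orderOf d by rw [hd2]; rfl, pow_orderOf_eq_one, map_one]
    · obtain ⟨q, rfl⟩ := QuotientGroup.mk_surjective a
      rw [pow_zero, pow_one] at h
      have h2 : d • (QuotientGroup.mk q : G ⧸ M) = QuotientGroup.mk q := h
      rw [MulAction.Quotient.smul_mk, QuotientGroup.eq, smul_eq_mul] at h2
      have h3 := M.inv_mem h2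
      rw [mul_inv_rev, inv_inv, ← mul_assoc] at h3
      exact h1 d hd hdC hd2 q⁻¹ (by rwa [inv_inv])
    · rw [← Nat.card_eq_fintype_card, ← hMidx]
      rfl
  -- `X = S ∩ R` is `T`
  set X := S ⊓ R with hX
  have hTX : T ≤ X := le_inf hTS (hTL.trans hLR)
  have hXD : ∀ d ∈ D, d ∈ R → d ∈ C := by
    intro d hd hdR
    by_contra hdC
    have h7 := hσR hdR
    rw [MonoidHom.mem_ker, hσx d hd hdC] at h7
    exact absurd h7 (by decide)
  set C' := C ⊓ R with hC'
  have hXprod : ∀ y ∈ X, ∃ a ∈ T, ∃ b ∈ C', y = a * b := by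
    intro y hy
    obtain ⟨hyS, hyR⟩ := mem_inf.mp hy
    obtain ⟨a, ha, b, hb, rfl⟩ := hprod y hyS
    have hbR : b ∈ R := (R.mul_mem_cancel_left (hLR (hTL ha))).mp hyR
    exact ⟨a, ha, b, mem_inf.mpr ⟨hXD b hb hbR, hbR⟩, rfl⟩
  let SS : Sylow 2 G := IsPGroup.toSylow hS2 hSsyl
  have hXi : ¬ 2 ∣ X.relIndex R := by
    have h := FusionMod.not_dvd_relIndex_inf_normal SS R
    rwa [IsPGroup.toSylow_coe] at h
  have hXT : X = T := by
    by_contra hne
    have hC'ne : C' ≠ ⊥ := by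
      intro h
      refine hne (le_antisymm (fun y hy => ?_) hTX)
      obtain ⟨a, ha, b, hb, rfl⟩ := hXprod y hy
      rw [h, mem_bot] at hb
      rw [hb, mul_one]
      exact ha
    haveI : IsCyclic C' := by
      haveI := hC
      exact isCyclic_of_injective (Subgroup.inclusion (inf_le_left : C' ≤ C))
        (Subgroup.inclusion_injective _)
    obtain ⟨c, hc⟩ := IsCyclic.exists_generator (α := C')
    obtain ⟨j, hj⟩ := IsPGroup.iff_card.mp (hS2.to_le ((inf_le_left : C' ≤ C).trans (hCD.trans hDS)))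
    obtain ⟨m, rfl⟩ : ∃ m, j = m + 1 := ⟨j - 1, by
      rcases j with _ | j
      · exact absurd (Subgroup.eq_bot_of_card_eq _ (by rw [hj, pow_zero])) hC'ne
      · omega⟩
    have hoc : orderOf (c : G) = 2 ^ (m + 1) := by
      rw [Subgroup.orderOf_coe, orderOf_eq_card_of_forall_mem_zpowers hc, hj]
    have hcR : (c : G) ∈ R := (mem_inf.mp c.2).2
    have hXcard : Nat.card X = Nat.card T * Nat.card C' := by
      rw [← Nat.card_prod]
      symm
      refine Nat.card_eq_of_bijective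
        (fun q : T × C' => (⟨(q.1 : G) * q.2, X.mul_mem (hTX q.1.2)
          (mem_inf.mpr ⟨hDS (hCD (mem_inf.mp q.2.2).1), (mem_inf.mp q.2.2).2⟩)⟩ : X))
        ⟨fun q q' h => ?_, fun y => ?_⟩
      · obtain ⟨e1, e2⟩ := hinj _ q.1.2 _ (hCD (mem_inf.mp q.2.2).1) _ q'.1.2 _
          (hCD (mem_inf.mp q'.2.2).1) (congrArg Subtype.val h)
        exact Prod.ext (Subtype.ext e1) (Subtype.ext e2)
      · obtain ⟨a, ha, b, hb, he⟩ := hXprod y y.2
        exact ⟨(⟨a, ha⟩, ⟨b, hb⟩), Subtype.ext he.symm⟩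
    have hidx : (T.subgroupOf R).index = 2 ^ (m + 1) * X.relIndex R := by
      have h3 := Subgroup.relIndex_mul_relIndex ⊥ X R bot_le inf_le_right
      have h4 := Subgroup.relIndex_mul_relIndex ⊥ T R bot_le (hTL.trans hLR)
      rw [Subgroup.relIndex_bot_left, Subgroup.relIndex_bot_left, hXcard, hj] at h3
      rw [Subgroup.relIndex_bot_left, Subgroup.relIndex_bot_left, ← h3, mul_assoc] at h4
      exact Nat.eq_of_mul_eq_mul_left Nat.card_pos h4
    obtain ⟨φ, hφ⟩ := exists_hom_neg_one (T.subgroupOf R) (x := (⟨c, hcR⟩ : R)) (m := m)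
      (k := X.relIndex R) (Subtype.ext (by rw [Subgroup.coe_pow, ← hoc, pow_orderOf_eq_one]; rfl))
      (fun q h => by
        rw [mem_subgroupOf] at h
        refine h2 ((c : G) ^ 2 ^ m) (C.pow_mem (mem_inf.mp c.2).1 _) ?_ ((q : G))⁻¹ ?_
        · rw [orderOf_pow_of_dvd (by positivity) (hoc ▸ pow_dvd_pow 2 (Nat.le_succ m)), hoc,
            pow_succ, Nat.mul_div_cancel_left _ (by positivity)]
        · rw [inv_inv]
          simpa using h)
      (Nat.odd_iff.mpr (Nat.two_dvd_ne_zero.mp hXi)) hidx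
    have h8 : (⟨c, hcR⟩ : R) ∈ φ.ker := by
      have h9 : Cfsg.pResidual 2 R ≤ φ.ker :=
        Transfer.pResidual_le_ker (IsPGroup.of_card (n := 1) (by simp [Nat.card_eq_fintype_card])) φ
      have h10 : Cfsg.pResidual 2 R = ⊤ := Transfer.pResidual_pResidual
      rw [h10] at h9
      exact h9 (mem_top _)
    rw [MonoidHom.mem_ker, hφ] at h8
    exact absurd h8 (by decide)
  refine ⟨R, Transfer.pResidual_normal, ?_, fun T' hT'L hT'p hT'i => ⟨hT'L.trans hLR, ?_⟩⟩
  · rw [eq_top_iff, ← Transfer.pResidual_sup_sylow SS, IsPGroup.toSylow_coe]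
    refine sup_le le_sup_left fun y hy => ?_
    obtain ⟨a, ha, b, hb, rfl⟩ := hprod y hy
    exact mul_mem_sup (hLR (hTL ha)) hb
  · have hcard : Nat.card T' = Nat.card X := by
      rw [hXT]
      exact le_antisymm
        (ConjFunctor.card_le_of_sylow hT'L hT'p hTL (hS2.to_le hTS) hTsyl)
        (ConjFunctor.card_le_of_sylow hTL (hS2.to_le hTS) hT'L hT'p hT'i)
    have h3 := Subgroup.relIndex_mul_relIndex ⊥ X R bot_le inf_le_right
    have h4 := Subgroup.relIndex_mul_relIndex ⊥ T' R bot_le (hT'L.trans hLR)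
    rw [Subgroup.relIndex_bot_left, Subgroup.relIndex_bot_left] at h3 h4
    rw [← h3, hcard] at h4
    rwa [Nat.eq_of_mul_eq_mul_left Nat.card_pos h4]

end Cfsg.Agent.Lib.DihedralTransfer
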